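import Cfsg.Agent.Lib.RootBlocks41.Lineless.Form

/-!
# A lineless bad involution: counting moved lines
-/

set_option autoImplicit false
set_option linter.unusedSectionVars false

namespace Cfsg.Agent.Lib.RootBlocks41

open Cfsg.Agent.Lib.Elem70

variable {G : Type*} [Group G] {D : Set G} {R : G → G → Prop}

/-- Partners not commuting with their image. -/
def Turned (D : Set G) (v a : G) : Set G :=
  {z | z ∈ Cfsg.productPartners D a ∧ ¬ Commute z (v * z * v⁻¹)}

namespace Crit

variable [Finite G] (c : Crit D R)
include c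

theorem shifted_of_not_turned {v a z : G} (hv : Bad D R v) (ha : a ∈ Cv D v)
    (hz : z ∈ Cfsg.productPartners D a) (hn : z ∉ Turned D v a) : v * z * v⁻¹ = z * a := by
  rcases c.dich hv ha hz with h | ⟨h4, -⟩
  · exact h
  · exact absurd (show Commute z (v * z * v⁻¹) from by
        by_contra h; exact hn ⟨hz, h⟩).eq
      (RootInv.not_comm_of_four c.blocks.hD hz.1.1 (conj_self c.blocks.hD v hz.1.1) h4)

theorem turned_image {v a z : G} (hv : Bad D R v) (ha : a ∈ Cv D v) (hz : z ∈ Turned D v a) :
    v * z * v⁻¹ ∈ Turned D v a ∧ v * (v * z * v⁻¹) * v⁻¹ = z := by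
  have hback : v * (v * z * v⁻¹) * v⁻¹ = z := by rw [RootInv12.conj_conj, hv.1]; simp
  refine ⟨⟨c.partner_conj ha.2.symm hz.1, ?_⟩, hback⟩
  rw [hback]
  exact fun h => hz.2 h.symm

theorem turned_mul {v a z : G} (ha : a ∈ Cv D v) (hz : z ∈ Turned D v a) :
    z * a ∈ Turned D v a := by
  have hD := c.blocks.hD
  refine ⟨c.partner_mul ha.1 hz.1, fun h => hz.2 ?_⟩
  have hva : v * a * v⁻¹ = a := conj_eq_of_commute ha.2
  rw [RootInv12.conj_mul', hva] at h
  have hza : Commute z a := hz.1.1.2.1
  have hz'a : Commute (v * z * v⁻¹) a := (c.partner_conj ha.2.symm hz.1).1.2.1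
  have h1 : Commute (z * a * a) (v * z * v⁻¹ * a * a) :=
    ((h.mul_left ((Commute.mul_left hz'a (Commute.refl a)).symm)).mul_right
      ((hza.mul_left (Commute.refl a)).mul_left (Commute.refl a)))
  rwa [mul_assoc, RootInvolutions.mul_self hD ha.1, mul_one, mul_assoc,
    RootInvolutions.mul_self hD ha.1, mul_one] at h1

/-- The line of a partner. -/
noncomputable def lineOf [DecidableEq G] (a z : G) : Finset G := {z, z * a}

theorem lineOf_mul [DecidableEq G] {a z : G} (ha : a ∈ D) : lineOf a (z * a) = lineOf a z := by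
  rw [lineOf, lineOf, mul_assoc, RootInvolutions.mul_self c.blocks.hD ha, mul_one,
    Finset.pair_comm]

theorem partners_mod_four {v a : G} (hv : Bad D R v) (ha : a ∈ Cv D v) :
    (Cfsg.productPartners D a).ncard % 4 = 0 := by
  classical
  let X := {x : G // x ∈ Cfsg.productPartners D a}
  letI : Fintype X := Fintype.ofFinite X
  have hcen : ∀ g : ↥(Subgroup.centralizer ({a} : Set G)), Commute (g : G) a := fun g =>
    Subgroup.mem_centralizer_singleton_iff.mp g.2
  let φ : ↥(Subgroup.centralizer ({a} : Set G)) →* Equiv.Perm X :=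
    { toFun := fun g =>
        { toFun := fun x => ⟨g * x.1 * (g : G)⁻¹, c.partner_conj (hcen g) x.2⟩
          invFun := fun x =>
            ⟨(g : G)⁻¹ * x.1 * (g : G)⁻¹⁻¹, c.partner_conj (hcen g).inv_left x.2⟩
          left_inv := fun x => Subtype.ext (by simp [mul_assoc])
          right_inv := fun x => Subtype.ext (by simp [mul_assoc]) }
      map_one' := Equiv.ext fun x => Subtype.ext (by simp)
      map_mul' := fun g h => Equiv.ext fun x => Subtype.ext (by simp [mul_assoc]) }
  have h4 := c.action_mod_four hv ha φ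
  have hsupp : (φ ⟨v, Subgroup.mem_centralizer_singleton_iff.mpr ha.2.eq.symm⟩).support =
      Finset.univ := by
    ext x
    simp only [Equiv.Perm.mem_support, Finset.mem_univ, iff_true]
    intro e
    exact c.partner_not_cv hv ha x.2 (commute_of_conj_eq (congrArg Subtype.val e))
  rw [hsupp, Finset.card_univ, ← Nat.card_eq_fintype_card] at h4
  exact h4

theorem turned_mod_eight {v a : G} (hv : Bad D R v) (ha : a ∈ Cv D v) :
    (Turned D v a).ncard % 8 = 0 := by
  classical
  have hD := c.blocks.hD
  set Ls : Finset (Finset G) :=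
    (Set.toFinite (Cfsg.productPartners D a)).toFinset.image (lineOf a) with hLs
  have hmLs : ∀ L, L ∈ Ls ↔ ∃ z ∈ Cfsg.productPartners D a, lineOf a z = L := fun L => by
    rw [hLs, Finset.mem_image]
    simp only [Set.Finite.mem_toFinset]
  have himg : ∀ g : G, Commute g a → ∀ z : G,
      (lineOf a z).image (fun x => g * x * g⁻¹) = lineOf a (g * z * g⁻¹) := by
    intro g hg z
    rw [lineOf, lineOf, Finset.image_insert, Finset.image_singleton, RootInv12.conj_mul',
      conj_eq_of_commute hg.symm]
  let X := {L : Finset G // L ∈ Ls}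
  have hmem : ∀ g : G, Commute g a → ∀ L ∈ Ls, L.image (fun x => g * x * g⁻¹) ∈ Ls := by
    intro g hg L hL
    obtain ⟨z, hz, rfl⟩ := (hmLs L).mp hL
    exact (hmLs _).mpr ⟨_, c.partner_conj hg hz, (himg g hg z).symm⟩
  have hcen : ∀ g : ↥(Subgroup.centralizer ({a} : Set G)), Commute (g : G) a := fun g =>
    Subgroup.mem_centralizer_singleton_iff.mp g.2
  let φ : ↥(Subgroup.centralizer ({a} : Set G)) →* Equiv.Perm X :=
    { toFun := fun g =>
        { toFun := fun L => ⟨L.1.image (fun x => (g : G) * x * (g : G)⁻¹), hmem g (hcen g) _ L.2⟩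
          invFun := fun L => ⟨L.1.image (fun x => (g : G)⁻¹ * x * (g : G)⁻¹⁻¹),
            hmem _ (hcen g).inv_left _ L.2⟩
          left_inv := fun L => Subtype.ext (by
            simp [Finset.image_image, Function.comp_def, mul_assoc])
          right_inv := fun L => Subtype.ext (by
            simp [Finset.image_image, Function.comp_def, mul_assoc]) }
      map_one' := Equiv.ext fun L => Subtype.ext (by simp)
      map_mul' := fun g h => Equiv.ext fun L => Subtype.ext (by
        simp [Finset.image_image, Function.comp_def, mul_assoc]) }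
  set vC : ↥(Subgroup.centralizer ({a} : Set G)) :=
    ⟨v, Subgroup.mem_centralizer_singleton_iff.mpr ha.2.eq.symm⟩
  have h4 : (φ vC).support.card % 4 = 0 := c.action_mod_four hv ha φ
  set T := (Set.toFinite (Turned D v a)).toFinset with hT
  have hiff : ∀ z ∈ Cfsg.productPartners D a,
      lineOf a (v * z * v⁻¹) ≠ lineOf a z ↔ z ∈ Turned D v a := by
    intro z hz
    constructor
    · intro h
      by_contra hn
      exact h (by rw [c.shifted_of_not_turned hv ha hz hn, c.lineOf_mul ha.1])
    · intro h e
      have hm : v * z * v⁻¹ ∈ lineOf a z := e ▸ Finset.mem_insert_self _ _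
      rw [lineOf, Finset.mem_insert, Finset.mem_singleton] at hm
      rcases hm with hm | hm
      · exact h.2 (by rw [hm])
      · exact h.2 (by rw [hm]; exact (Commute.refl z).mul_right hz.1.2.1)
  have hsupp : (φ vC).support.map (Function.Embedding.subtype _) = T.image (lineOf a) := by
    ext L
    simp only [Finset.mem_map, Equiv.Perm.mem_support, Finset.mem_image,
      Function.Embedding.coe_subtype, hT, Set.Finite.mem_toFinset]
    constructor
    · rintro ⟨⟨L, hL⟩, hne, rfl⟩
      obtain ⟨z, hz, rfl⟩ := (hmLs L).mp hL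
      refine ⟨z, (hiff z hz).mp fun e => hne (Subtype.ext ?_), rfl⟩
      show (lineOf a z).image (fun x => v * x * v⁻¹) = lineOf a z
      rw [himg v ha.2.symm z, e]
    · rintro ⟨z, hz, rfl⟩
      refine ⟨⟨lineOf a z, (hmLs _).mpr ⟨z, hz.1, rfl⟩⟩, fun e => ?_, rfl⟩
      have e' : (lineOf a z).image (fun x => v * x * v⁻¹) = lineOf a z := congrArg Subtype.val e
      rw [himg v ha.2.symm z] at e'
      exact (hiff z hz.1).mpr hz e'
  have hfib : ∀ L ∈ T.image (lineOf a), (T.filter fun z => lineOf a z = L).card = 2 := by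
    intro L hL
    obtain ⟨z, hz, rfl⟩ := Finset.mem_image.mp hL
    rw [hT, Set.Finite.mem_toFinset] at hz
    rw [show (T.filter fun x => lineOf a x = lineOf a z) = {z, z * a} from ?_, Finset.card_pair]
    · exact fun e => RootInvolutions.ne_one hD ha.1 (mul_eq_left.mp e.symm)
    ext x
    simp only [Finset.mem_filter, Finset.mem_insert, Finset.mem_singleton, hT,
      Set.Finite.mem_toFinset]
    constructor
    · rintro ⟨-, e⟩
      have hx : x ∈ lineOf a z := e ▸ Finset.mem_insert_self _ _
      rwa [lineOf, Finset.mem_insert, Finset.mem_singleton] at hx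
    · rintro (rfl | rfl)
      · exact ⟨hz, rfl⟩
      · exact ⟨c.turned_mul ha hz, c.lineOf_mul ha.1⟩
  have hcard : T.card = 2 * (φ vC).support.card := by
    rw [← Finset.card_map (Function.Embedding.subtype _), hsupp,
      Finset.card_eq_sum_card_image (lineOf a) T, Finset.sum_congr rfl hfib, Finset.sum_const,
      smul_eq_mul, mul_comm]
  rw [Set.ncard_eq_toFinset_card _ (Set.toFinite _), ← hT, hcard]
  omega

end Crit

end Cfsg.Agent.Lib.RootBlocks41
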