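import Cfsg.Agent.Lib.RootBlocks41.Lineless.Setup

/-!
# A lineless bad involution: the partners of a fixed member
-/

set_option autoImplicit false
set_option linter.unusedSectionVars false

namespace Cfsg.Agent.Lib.RootBlocks41

open Cfsg.Agent.Lib.Elem70

variable {G : Type*} [Group G] {D : Set G} {R : G → G → Prop}

/-- Any two partners of `a` commute or multiply to a square root of `a`. -/
def FlatAt (D : Set G) (a : G) : Prop :=
  (∀ z ∈ Cfsg.productPartners D a, ∀ u ∈ Cfsg.productPartners D a,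
      Commute z u ∨ (z * u) ^ 2 = a) ∧
    ∃ z ∈ Cfsg.productPartners D a, ∃ u ∈ Cfsg.productPartners D a, ¬ Commute z u

namespace Crit

variable [Finite G] (c : Crit D R)
include c

theorem mem_partners {a x : G} (ha : a ∈ D) (hx : x ∈ D) (hc : Commute x a) (hne : x ≠ a) :
    x ∈ Cfsg.productPartners D a :=
  ⟨⟨hx, hc.eq, hne⟩, c.line_of_commute hx ha hc hne⟩

theorem partner_conj {a z g : G} (hg : Commute g a)
    (hz : z ∈ Cfsg.productPartners D a) : g * z * g⁻¹ ∈ Cfsg.productPartners D a := by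
  have hD := c.blocks.hD
  have ea : g * a * g⁻¹ = a := conj_eq_of_commute hg.symm
  refine ⟨⟨conj_self hD g hz.1.1, ?_, fun e => hz.1.2.2 ?_⟩, ?_⟩
  · have := RootInv12.commute_conj hz.1.2.1 g; rwa [ea] at this
  · exact RootInv12.conj_injective g (e.trans ea.symm)
  · have := conj_self hD g hz.2; rwa [RootInv12.conj_mul', ea] at this

theorem partner_mul {a z : G} (ha : a ∈ D) (hz : z ∈ Cfsg.productPartners D a) :
    z * a ∈ Cfsg.productPartners D a := line_third c.blocks.hD ha hz

theorem partners_nadj {a z u : G} (ha : a ∈ D) (hz : z ∈ Cfsg.productPartners D a)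
    (hu : u ∈ Cfsg.productPartners D a) : ¬ Cfsg.OddAdj D z u := fun h =>
  RootInvolutions.ne_one c.blocks.hD ha (parity c.blocks.hD h hz.2 (Eq.symm hz.1.2.1)
    (Eq.symm hu.1.2.1) (RootInvolutions.mul_self c.blocks.hD ha))

theorem partners_sq {a z u : G} (ha : a ∈ D) (hz : z ∈ Cfsg.productPartners D a)
    (hu : u ∈ Cfsg.productPartners D a) (hn : ¬ Commute z u) :
    orderOf (z * u) = 4 ∧ (z * u) ^ 2 ∈ D ∧ Commute ((z * u) ^ 2) a := by
  rcases trichotomy c.blocks.hD hz.1.1 hu.1.1 with h | h | ⟨h4, hg⟩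
  · exact absurd h hn
  · exact absurd h (c.partners_nadj ha hz hu)
  · exact ⟨h4, hg, (Commute.mul_left hz.1.2.1 hu.1.2.1).pow_left 2⟩

theorem partners_two_group {a : G} (ha : a ∈ D) :
    IsPGroup 2 (Subgroup.closure (Cfsg.productPartners D a)) := by
  have hD := c.blocks.hD
  refine isPGroup_closure_of_pow_four (fun z hz => hD.orderOf_eq z hz.1.1)
    (fun z hz u hu => c.partner_conj hz.1.2.1 hu) fun z hz u hu => ?_
  exact RootInvolutions.pow_four_of_not_adj hD hz.1.1 hu.1.1 (c.partners_nadj ha hz hu)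

theorem partner_not_cv {v a z : G} (hv : Bad D R v) (ha : a ∈ Cv D v)
    (hz : z ∈ Cfsg.productPartners D a) : ¬ Commute z v := fun hzv =>
  hz.1.2.2 (c.eq_of_commute hv ha hz.1.1 hzv hz.1.2.1)

/-- The two ways a lineless involution moves a partner. -/
theorem dich {v a z : G} (hv : Bad D R v) (ha : a ∈ Cv D v)
    (hz : z ∈ Cfsg.productPartners D a) :
    v * z * v⁻¹ = z * a ∨
      (orderOf (z * (v * z * v⁻¹)) = 4 ∧ (z * (v * z * v⁻¹)) ^ 2 = a) := by
  have hD := c.blocks.hD
  have hva : Commute v a := ha.2.symm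
  set z' := v * z * v⁻¹ with hz'
  have hz'P : z' ∈ Cfsg.productPartners D a := c.partner_conj hva hz
  have hne : z ≠ z' := fun e => c.partner_not_cv hv ha hz (commute_of_conj_eq (hz' ▸ e.symm))
  have hback : v * z' * v⁻¹ = z := by rw [hz', RootInv12.conj_conj, hv.1]; simp
  rcases trichotomy hD hz.1.1 hz'P.1.1 with hc | ho | ⟨h4, hg⟩
  · have ht : z * z' ∈ D := c.line_of_commute hz.1.1 hz'P.1.1 hc hne
    have htv : Commute (z * z') v := commute_of_conj_eq (by
      rw [RootInv12.conj_mul', hback, ← hz', hc.eq])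
    have hta : z * z' = a :=
      c.eq_of_commute hv ha ht htv (Commute.mul_left hz.1.2.1 hz'P.1.2.1)
    left
    rw [← hta, ← mul_assoc, RootInvolutions.mul_self hD hz.1.1, one_mul]
  · exact absurd ho (c.partners_nadj ha.1 hz hz'P)
  · refine Or.inr ⟨h4, c.eq_of_commute hv ha hg (commute_of_conj_eq ?_)
      ((Commute.mul_left hz.1.2.1 hz'P.1.2.1).pow_left 2)⟩
    rw [← conj_pow, RootInv12.conj_mul', hback, ← hz', RootInv.four_symm hD hz.1.1 hz'P.1.1 h4]

/-- No invariant commutative set of partners. -/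
theorem no_invariant {v a : G} (hv : Bad D R v) (ha : a ∈ Cv D v) {T : Set G}
    (hT : T ⊆ Cfsg.productPartners D a) (hne : T.Nonempty)
    (hinv : ∀ g : G, Commute g a → ∀ z ∈ T, g * z * g⁻¹ ∈ T)
    (hcomm : ∀ z ∈ T, ∀ u ∈ T, Commute z u) : False := by
  classical
  have hD := c.blocks.hD
  obtain ⟨z, hz⟩ := hne
  have hgam : ∀ y ∈ T, v * y * v⁻¹ = y * a := by
    intro y hy
    rcases c.dich hv ha (hT hy) with h | ⟨h4, -⟩
    · exact h
    · exact absurd (hcomm y hy _ (hinv v ha.2.symm y hy))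
        (fun hc => RootInv.not_comm_of_four hD (hT hy).1.1 (conj_self hD v (hT hy).1.1) h4 hc.eq)
  have hza : z * a ∈ T := hgam z hz ▸ hinv v ha.2.symm z hz
  have hTeq : ∀ u ∈ T, u = z ∨ u = z * a := by
    intro u hu
    by_contra hn
    push Not at hn
    have ht : z * u ∈ D := c.line_of_commute (hT hz).1.1 (hT hu).1.1 (hcomm z hz u hu) (Ne.symm hn.1)
    have htv : Commute (z * u) v := commute_of_conj_eq (by
      rw [RootInv12.conj_mul', hgam z hz, hgam u hu, ← (show Commute u a from (hT hu).1.2.1).eq.symm,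
        mul_assoc z, ← mul_assoc a a, RootInvolutions.mul_self hD ha.1, one_mul])
    have e := c.eq_of_commute hv ha ht htv (Commute.mul_left (hT hz).1.2.1 (hT hu).1.2.1)
    exact hn.2 (by rw [← e, ← mul_assoc, RootInvolutions.mul_self hD (hT hz).1.1, one_mul])
  let X := {x : G // x ∈ T}
  letI : Fintype X := Fintype.ofFinite X
  have hcen : ∀ g : ↥(Subgroup.centralizer ({a} : Set G)), Commute (g : G) a := fun g =>
    Subgroup.mem_centralizer_singleton_iff.mp g.2
  let φ : ↥(Subgroup.centralizer ({a} : Set G)) →* Equiv.Perm X :=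
    { toFun := fun g =>
        { toFun := fun x => ⟨g * x.1 * (g : G)⁻¹, hinv g (hcen g) x.1 x.2⟩
          invFun := fun x => ⟨(g : G)⁻¹ * x.1 * (g : G)⁻¹⁻¹, hinv _ (hcen g).inv_left x.1 x.2⟩
          left_inv := fun x => Subtype.ext (by simp [mul_assoc])
          right_inv := fun x => Subtype.ext (by simp [mul_assoc]) }
      map_one' := Equiv.ext fun x => Subtype.ext (by simp)
      map_mul' := fun g h => Equiv.ext fun x => Subtype.ext (by simp [mul_assoc]) }
  have h4 := c.action_mod_four hv ha φ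
  have hsupp : (φ ⟨v, Subgroup.mem_centralizer_singleton_iff.mpr ha.2.eq.symm⟩).support =
      Finset.univ := by
    ext x
    simp only [Equiv.Perm.mem_support, Finset.mem_univ, iff_true]
    intro e
    exact c.partner_not_cv hv ha (hT x.2) (commute_of_conj_eq (congrArg Subtype.val e))
  have huniv : (Finset.univ : Finset X) = {⟨z, hz⟩, ⟨z * a, hza⟩} := by
    ext x
    simp only [Finset.mem_univ, Finset.mem_insert, Finset.mem_singleton, true_iff]
    rcases hTeq x.1 x.2 with h | h
    · exact Or.inl (Subtype.ext h)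
    · exact Or.inr (Subtype.ext h)
  rw [hsupp, huniv, Finset.card_pair] at h4
  · exact absurd h4 (by norm_num)
  · intro e
    exact RootInvolutions.ne_one hD ha.1 (mul_eq_left.mp (congrArg Subtype.val e).symm)

theorem flat {v a : G} (hv : Bad D R v) (ha : a ∈ Cv D v) : FlatAt D a := by
  classical
  have h := c.blocks
  have hD := h.hD
  set P := Cfsg.productPartners D a with hP
  obtain ⟨z0, hz0⟩ := h.hasLine_all c.line ha.1
  refine ⟨?_, ?_⟩
  swap
  · by_contra hall
    push Not at hall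
    exact c.no_invariant hv ha (T := P) (fun _ h => h) ⟨z0, hz0⟩
      (fun g hg z hz => c.partner_conj hg hz) hall
  by_contra hbad
  push Not at hbad
  obtain ⟨z1, hz1, u1, hu1, hnc1, hne1⟩ := hbad
  let T0 : Set G := {g | ∃ z ∈ P, ∃ u ∈ P, ¬ Commute z u ∧ (z * u) ^ 2 = g ∧ g ≠ a}
  have hT0P : T0 ⊆ P := by
    rintro g ⟨z, hz, u, hu, hn, rfl, hne⟩
    obtain ⟨-, hg, hga⟩ := c.partners_sq ha.1 hz hu hn
    exact c.mem_partners ha.1 hg hga hne
  have hT0inv : ∀ g : G, Commute g a → ∀ y ∈ T0, g * y * g⁻¹ ∈ T0 := by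
    rintro g hg y ⟨z, hz, u, hu, hn, rfl, hne⟩
    refine ⟨_, c.partner_conj hg hz, _, c.partner_conj hg hu, fun hc => hn ?_, ?_, fun e => ?_⟩
    · have := RootInv12.commute_conj hc g⁻¹
      simpa [mul_assoc] using this
    · rw [← RootInv12.conj_mul', conj_pow]
    · exact hne (RootInv12.conj_injective g (e.trans (conj_eq_of_commute hg.symm).symm))
  set K := Subgroup.closure P with hK
  obtain ⟨n, hn⟩ := (Subgroup.isNilpotent_iff_lowerCentralSeries K).mp
    ((c.partners_two_group ha.1).isNilpotent)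
  -- a square deepest in the lower central series
  obtain ⟨g, hg, k, hk, hmax⟩ : ∃ g ∈ T0, ∃ k, g ∈ K.lowerCentralSeries k ∧
      ∀ g' ∈ T0, g' ∉ K.lowerCentralSeries (k + 1) := by
    by_contra hno
    push Not at hno
    have hall : ∀ k, ∃ g ∈ T0, g ∈ K.lowerCentralSeries k := by
      intro k
      induction k with
      | zero =>
        exact ⟨_, ⟨z1, hz1, u1, hu1, hnc1, rfl, hne1⟩, Subgroup.subset_closure
          (hT0P ⟨z1, hz1, u1, hu1, hnc1, rfl, hne1⟩)⟩
      | succ k ih =>
        obtain ⟨g, hg, hk⟩ := ih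
        obtain ⟨g', hg', hk'⟩ := hno g hg k hk
        exact ⟨g', hg', hk'⟩
    obtain ⟨g, hg, hk⟩ := hall n
    rw [hn, Subgroup.mem_bot] at hk
    exact RootInvolutions.ne_one hD (hT0P hg).1.1 hk
  let T1 : Set G := {y | y ∈ P ∧ ∀ u ∈ P, Commute y u ∨ (y * u) ^ 2 = a}
  have hgT1 : g ∈ T1 := by
    refine ⟨hT0P hg, fun u hu => ?_⟩
    by_contra hor
    push Not at hor
    refine hmax _ ⟨g, hT0P hg, u, hu, hor.1, rfl, hor.2⟩ ?_
    have e : (g * u) ^ 2 = g * u * g⁻¹ * u⁻¹ := by
      rw [sq, RootInvolutions.inv_self hD (hT0P hg).1.1, RootInvolutions.inv_self hD hu.1.1,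
        ← mul_assoc]
    rw [e, ← commutatorElement_def, Subgroup.lowerCentralSeries_succ]
    exact Subgroup.commutator_mem_commutator hk (Subgroup.subset_closure hu)
  refine c.no_invariant hv ha (T := T0 ∩ T1) (fun y hy => hT0P hy.1) ⟨g, hg, hgT1⟩ ?_ ?_
  · rintro q hq y ⟨hy0, hy, hy1⟩
    refine ⟨hT0inv q hq y hy0, c.partner_conj hq hy, fun u hu => ?_⟩
    have hu' := c.partner_conj hq.inv_left hu
    have e : q * (q⁻¹ * u * q⁻¹⁻¹) * q⁻¹ = u := by simp [mul_assoc]
    rcases hy1 _ hu' with hc | hs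
    · left; have := RootInv12.commute_conj hc q; rwa [e] at this
    · right
      have := congrArg (fun t => q * t * q⁻¹) hs
      rwa [← conj_pow, RootInv12.conj_mul', e, conj_eq_of_commute hq.symm] at this
  · rintro y ⟨-, hy, hy1⟩ w ⟨⟨z, hz, u, hu, -, hw, -⟩, -⟩
    have hcase : ∀ x ∈ P, y * x * y⁻¹ = x ∨ y * x * y⁻¹ = a * x := by
      intro x hx
      rcases hy1 x hx with hc | hs
      · exact Or.inl (conj_eq_of_commute hc.symm)
      · right
        rw [RootInvolutions.inv_self hD hy.1.1, ← hs, sq]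
        simp only [mul_assoc, RootInvolutions.mul_self hD hx.1.1, mul_one]
    have hza : Commute a z := Eq.symm hz.1.2.1
    have hua : Commute a u := Eq.symm hu.1.2.1
    have key : (y * z * y⁻¹ * (y * u * y⁻¹)) ^ 2 = (z * u) ^ 2 := by
      have haa := RootInvolutions.mul_self hD ha.1
      have hzu : Commute a (z * u) := hza.mul_right hua
      rcases hcase z hz with e1 | e1 <;> rcases hcase u hu with e2 | e2 <;> rw [e1, e2]
      · rw [← mul_assoc, ← hza.eq, mul_assoc, hzu.mul_pow, sq a, haa, one_mul]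
      · rw [mul_assoc, hzu.mul_pow, sq a, haa, one_mul]
      · rw [mul_assoc, ← mul_assoc z, ← hza.eq, mul_assoc, ← mul_assoc a, haa, one_mul]
    exact (commute_of_conj_eq (by rw [← hw, ← conj_pow, RootInv12.conj_mul', key])).symm

end Crit

end Cfsg.Agent.Lib.RootBlocks41
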