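import Cfsg.Agent.Lib.RootBlocks41.Lineless.Gamma

/-!
# A lineless bad involution: the commutation form on the partners
-/

set_option autoImplicit false
set_option linter.unusedSectionVars false

namespace Cfsg.Agent.Lib.RootBlocks41

open Cfsg.Agent.Lib.Elem70

variable {G : Type*} [Group G] {D : Set G} {R : G → G → Prop}

open Classical in
/-- Commutation as a form with values in the field of two elements. -/
noncomputable def bil (x u : G) : ZMod 2 := if Commute x u then 0 else 1

theorem bil_eq_zero {x u : G} : bil x u = 0 ↔ Commute x u := by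
  classical
  unfold bil
  split_ifs with h <;> simp [h]

theorem bil_eq_one {x u : G} : bil x u = 1 ↔ ¬ Commute x u := by
  classical
  unfold bil
  split_ifs with h <;> simp [h]

theorem bil_symm (x u : G) : bil x u = bil u x := by
  classical
  unfold bil
  exact if_congr ⟨fun h => h.symm, fun h => h.symm⟩ rfl rfl

theorem bil_self (x : G) : bil x x = 0 := bil_eq_zero.mpr (Commute.refl x)

theorem bil_one (x : G) : bil 1 x = 0 := bil_eq_zero.mpr (Commute.one_left x)

theorem bil_conj (g x u : G) : bil (g * x * g⁻¹) (g * u * g⁻¹) = bil x u := by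
  classical
  unfold bil
  refine if_congr ⟨fun h => ?_, fun h => RootInv12.commute_conj h g⟩ rfl rfl
  have := RootInv12.commute_conj h g⁻¹
  simpa [mul_assoc] using this

/-- A member of `span` is moved by another at most by the central element. -/
def ConjTo (a x u : G) : Prop := u * x * u⁻¹ = x ∨ u * x * u⁻¹ = x * a

theorem ConjTo.bil_mul {a x y u : G} (hx : ConjTo a x u) (hy : ConjTo a y u)
    (hau : Commute a y) (ha : a * a = 1) : bil (x * y) u = bil x u + bil y u := by
  have key : ∀ {z : G}, Commute z u ↔ u * z * u⁻¹ = z := fun {z} =>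
    ⟨fun h => conj_eq_of_commute h, fun h => commute_of_conj_eq h⟩
  have e := RootInv12.conj_mul' u x y
  by_cases h1 : Commute x u <;> by_cases h2 : Commute y u
  · rw [bil_eq_zero.mpr h1, bil_eq_zero.mpr h2, bil_eq_zero.mpr (h1.mul_left h2)]; rfl
  · rw [bil_eq_zero.mpr h1, bil_eq_one.mpr h2, bil_eq_one.mpr]
    · rfl
    intro h
    exact h2 (by simpa [← mul_assoc] using h1.inv_left.mul_left h)
  · rw [bil_eq_one.mpr h1, bil_eq_zero.mpr h2, bil_eq_one.mpr]
    · rfl
    intro h
    exact h1 (by simpa [mul_assoc] using h.mul_left h2.inv_left)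
  · rw [bil_eq_one.mpr h1, bil_eq_one.mpr h2, bil_eq_zero.mpr]
    · rfl
    refine key.mpr (e.trans ?_)
    rw [hx.resolve_left (fun h => h1 (key.mpr h)), hy.resolve_left (fun h => h2 (key.mpr h)),
      mul_assoc x, ← mul_assoc a, hau.eq, mul_assoc y, ha, mul_one]

namespace Crit

variable [Finite G] (c : Crit D R)
include c

theorem span_commute {a p : G} (hp : p ∈ Subgroup.closure (Cfsg.productPartners D a)) :
    Commute p a := by
  have : Subgroup.closure (Cfsg.productPartners D a) ≤ Subgroup.centralizer ({a} : Set G) := by
    rw [Subgroup.closure_le]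
    exact fun z hz => Subgroup.mem_centralizer_singleton_iff.mpr hz.1.2.1
  exact Subgroup.mem_centralizer_singleton_iff.mp (this hp)

theorem span_conjTo {a : G} (ha : a ∈ D) (hf : FlatAt D a) {x u : G}
    (hx : x ∈ Subgroup.closure (Cfsg.productPartners D a))
    (hu : u ∈ Subgroup.closure (Cfsg.productPartners D a)) : ConjTo a x u := by
  have hD := c.blocks.hD
  have haa := RootInvolutions.mul_self hD ha
  induction hx using Subgroup.closure_induction with
  | one => exact Or.inl (by simp)
  | mul p q _ hq ihp ihq =>
    have hqa : Commute a q := (c.span_commute hq).symm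
    rcases ihp with e1 | e1 <;> rcases ihq with e2 | e2 <;> unfold ConjTo <;>
      rw [RootInv12.conj_mul', e1, e2]
    · exact Or.inl rfl
    · exact Or.inr (mul_assoc p q a).symm
    · right; rw [mul_assoc p a q, hqa.eq, mul_assoc]
    · left; rw [mul_assoc p a, ← mul_assoc a q a, hqa.eq, mul_assoc q a a, haa, mul_one]
  | inv p hp ih =>
    have hpa : Commute a p⁻¹ := (c.span_commute hp).symm.inv_right
    rcases ih with e | e
    · left; rw [← conj_inv, e]
    · right; rw [← conj_inv, e, mul_inv_rev, RootInvolutions.inv_self hD ha, hpa.eq]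
  | mem z hz =>
    induction hu using Subgroup.closure_induction'' with
    | one => exact Or.inl (by simp)
    | mem w hw =>
      rcases hf.1 z hz w hw with h | h
      · exact Or.inl (conj_eq_of_commute h)
      · right
        rw [sq] at h
        rw [RootInvolutions.inv_self hD hw.1.1, ← h]
        simp only [← mul_assoc, RootInvolutions.mul_self hD hz.1.1, one_mul]
    | inv_mem w hw =>
      rcases hf.1 z hz w hw with h | h
      · exact Or.inl (conj_eq_of_commute h.inv_right)
      · right
        rw [sq] at h
        rw [inv_inv, RootInvolutions.inv_self hD hw.1.1, ← h]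
        simp only [← mul_assoc, RootInvolutions.mul_self hD hz.1.1, one_mul]
    | mul p q hp _ ihp ihq =>
      unfold ConjTo
      rw [← RootInv12.conj_conj]
      have hpa : p * a * p⁻¹ = a := conj_eq_of_commute (c.span_commute hp).symm
      rcases ihq with e2 | e2 <;> rw [e2]
      · exact ihp
      · rw [RootInv12.conj_mul', hpa]
        rcases ihp with e1 | e1 <;> rw [e1]
        · exact Or.inr rfl
        · left; rw [mul_assoc, haa, mul_one]

theorem span_bil_mul {a : G} (ha : a ∈ D) (hf : FlatAt D a) {x y u : G}
    (hx : x ∈ Subgroup.closure (Cfsg.productPartners D a))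
    (hy : y ∈ Subgroup.closure (Cfsg.productPartners D a))
    (hu : u ∈ Subgroup.closure (Cfsg.productPartners D a)) :
    bil (x * y) u = bil x u + bil y u :=
  (c.span_conjTo ha hf hx hu).bil_mul (c.span_conjTo ha hf hy hu) (c.span_commute hy).symm
    (RootInvolutions.mul_self c.blocks.hD ha)

theorem span_bil_mul_a {a : G} (ha : a ∈ D) (hf : FlatAt D a) {x u : G}
    (hx : x ∈ Subgroup.closure (Cfsg.productPartners D a))
    (hu : u ∈ Subgroup.closure (Cfsg.productPartners D a)) : bil (x * a) u = bil x u := by
  have hau : Commute a u := (c.span_commute hu).symm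
  have haP : a ∈ Subgroup.closure (Cfsg.productPartners D a) := by
    obtain ⟨z, hz, -⟩ := hf.2
    have := mul_mem (Subgroup.subset_closure hz : z ∈ Subgroup.closure _)
      (Subgroup.subset_closure (c.partner_mul ha hz) : z * a ∈ Subgroup.closure _)
    rwa [← mul_assoc, RootInvolutions.mul_self c.blocks.hD hz.1.1, one_mul] at this
  rw [c.span_bil_mul ha hf hx haP hu, bil_eq_zero.mpr hau, add_zero]

end Crit

end Cfsg.Agent.Lib.RootBlocks41
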