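import Cfsg.Agent.Lib.RootBlocks41.Lineless.Flat

/-!
# A lineless bad involution: the case where every partner is shifted
-/

set_option autoImplicit false
set_option linter.unusedSectionVars false

namespace Cfsg.Agent.Lib.RootBlocks41

open Cfsg.Agent.Lib.Elem70

variable {G : Type*} [Group G] {D : Set G} {R : G → G → Prop}

/-- `v` multiplies every partner of a member of `Cv` by that member. -/
def AllShift (D : Set G) (v : G) : Prop :=
  ∀ r ∈ Cv D v, ∀ z ∈ Cfsg.productPartners D r, v * z * v⁻¹ = z * r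

namespace Crit

variable [Finite G] (c : Crit D R)
include c

theorem flatAt_conj {a : G} (ha : FlatAt D a) (g : G) : FlatAt D (g * a * g⁻¹) := by
  have hD := c.blocks.hD
  have hback : ∀ z ∈ Cfsg.productPartners D (g * a * g⁻¹),
      ∃ z0 ∈ Cfsg.productPartners D a, g * z0 * g⁻¹ = z := by
    intro z hz
    refine ⟨g⁻¹ * z * g⁻¹⁻¹, ⟨⟨conj_self hD g⁻¹ hz.1.1, ?_, fun e => hz.1.2.2 ?_⟩, ?_⟩,
      by simp [mul_assoc]⟩
    · have := RootInv12.commute_conj hz.1.2.1 g⁻¹
      simpa [mul_assoc, Commute, SemiconjBy] using this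
    · have := congrArg (fun x => g * x * g⁻¹) e; simpa [mul_assoc] using this
    · have := conj_self hD g⁻¹ hz.2; simpa [mul_assoc] using this
  have hfwd : ∀ z ∈ Cfsg.productPartners D a,
      g * z * g⁻¹ ∈ Cfsg.productPartners D (g * a * g⁻¹) := by
    intro z hz
    refine ⟨⟨conj_self hD g hz.1.1, RootInv12.commute_conj hz.1.2.1 g,
      fun e => hz.1.2.2 (RootInv12.conj_injective g e)⟩, ?_⟩
    rw [← RootInv12.conj_mul']; exact conj_self hD g hz.2
  refine ⟨fun z hz u hu => ?_, ?_⟩
  · obtain ⟨z0, hz0, rfl⟩ := hback z hz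
    obtain ⟨u0, hu0, rfl⟩ := hback u hu
    rcases ha.1 z0 hz0 u0 hu0 with h | h
    · exact Or.inl (RootInv12.commute_conj h g)
    · right; rw [← RootInv12.conj_mul', conj_pow, h]
  · obtain ⟨z, hz, u, hu, hn⟩ := ha.2
    refine ⟨_, hfwd z hz, _, hfwd u hu, fun hc => hn ?_⟩
    have := RootInv12.commute_conj hc g⁻¹
    simpa [mul_assoc] using this

theorem allShift_of_at {v a : G} (hv : Bad D R v) (ha : a ∈ Cv D v)
    (h : ∀ z ∈ Cfsg.productPartners D a, v * z * v⁻¹ = z * a) : AllShift D v := by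
  intro r hr z hz
  have hD := c.blocks.hD
  obtain ⟨g, hgv, hga⟩ := c.cv_conj hv ha hr
  have hz0 : g⁻¹ * z * g ∈ Cfsg.productPartners D a := by
    have hr' : g⁻¹ * r * g = a := by rw [← hga]; simp [mul_assoc]
    refine ⟨⟨by simpa using conj_self hD g⁻¹ hz.1.1, ?_, fun e => hz.1.2.2 ?_⟩, ?_⟩
    · have := RootInv12.commute_conj hz.1.2.1 g⁻¹
      rw [inv_inv, hr'] at this
      exact this
    · rw [← hga, ← e]; simp [mul_assoc]
    · have := conj_self hD g⁻¹ hz.2
      rwa [RootInv12.conj_mul', inv_inv, hr'] at this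
  calc v * z * v⁻¹ = g * (v * (g⁻¹ * z * g) * v⁻¹) * g⁻¹ := by
        rw [RootInv12.conj_conj, hgv.eq, ← RootInv12.conj_conj]; simp [mul_assoc]
    _ = g * (g⁻¹ * z * g * a) * g⁻¹ := by rw [h _ hz0]
    _ = z * r := by rw [← hga]; simp [mul_assoc]

theorem allShift_conj {v : G} (h : AllShift D v) (g : G) : AllShift D (g * v * g⁻¹) := by
  intro r hr z hz
  have hD := c.blocks.hD
  have hr' : g⁻¹ * r * g ∈ Cv D v := by
    refine ⟨by simpa using conj_self hD g⁻¹ hr.1, ?_⟩
    have := RootInv12.commute_conj hr.2 g⁻¹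
    simpa [mul_assoc] using this
  have hz' : g⁻¹ * z * g ∈ Cfsg.productPartners D (g⁻¹ * r * g) := by
    refine ⟨⟨by simpa using conj_self hD g⁻¹ hz.1.1, ?_, fun e => hz.1.2.2 ?_⟩, ?_⟩
    · have := RootInv12.commute_conj hz.1.2.1 g⁻¹
      simp only [inv_inv] at this
      exact this
    · exact mul_left_cancel (mul_right_cancel e)
    · have := conj_self hD g⁻¹ hz.2; simpa [mul_assoc] using this
  have := congrArg (fun x => g * x * g⁻¹) (h _ hr' _ hz')
  simpa [mul_assoc] using this

theorem shift {v r : G} (hv : Bad D R v) (h : AllShift D v) (hr : r ∈ Cv D v) :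
    Bad D R (v * r) ∧ AllShift D (v * r) := by
  obtain ⟨z, hz⟩ := c.blocks.hasLine_all c.line hr.1
  have hzz := RootInvolutions.mul_self c.blocks.hD hz.1.1
  have e1 : v * z = z * r * v := by rw [← h r hr z hz, inv_mul_cancel_right]
  have e : z * v * z⁻¹ = v * r := by
    rw [RootInvolutions.inv_self c.blocks.hD hz.1.1, mul_assoc, e1, ← mul_assoc, ← mul_assoc, hzz,
      one_mul, hr.2.eq]
  exact ⟨e ▸ c.blocks.bad_conj hv z, e ▸ c.allShift_conj h z⟩

theorem shift_adj {v a y w : G} (hv : Bad D R v) (h : AllShift D v) (ha : a ∈ Cv D v)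
    (hy : y ∈ Cv D v) (hne : y ≠ a) (hw : w ∈ Cfsg.productPartners D a) :
    Cfsg.OddAdj D y w := by
  have hD := c.blocks.hD
  have haw : Commute a w := Eq.symm hw.1.2.1
  have hadj := c.cv_adj hv ha hy (Ne.symm hne)
  rcases trichotomy hD hy.1 hw.1.1 with hc | ho | ⟨h4, hg⟩
  · exact absurd (parity hD hadj (haw.eq ▸ hw.2) haw.symm hc.symm
      (RootInvolutions.mul_self hD hw.1.1)) (RootInvolutions.ne_one hD hw.1.1)
  · exact ho
  · exfalso
    obtain ⟨hgy, -, hgP, -⟩ := sq_facts hD hy.1 hw.1.1 h4 hg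
    have hs := h y hy _ hgP
    rw [← conj_pow, RootInv12.conj_mul', conj_eq_of_commute hy.2, h a ha w hw] at hs
    have e : a * y * a = (y * w) ^ 2 := by
      rw [sq, ← haw.eq] at hs
      simp only [sq, mul_assoc] at hs ⊢
      have h1 := mul_left_cancel hs
      have hww := RootInvolutions.mul_self hD hw.1.1
      calc a * (y * a) = w * w * (a * (y * a)) * (w * w) := by rw [hww, one_mul, mul_one]
        _ = w * ((w * a) * (y * (a * w))) * w := by simp only [mul_assoc]
        _ = w * (w * (y * (w * y))) * w := by rw [← haw.eq, mul_assoc a w, h1]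
        _ = y * (w * (y * w)) := by
          rw [← mul_assoc w w, hww, one_mul]; simp only [mul_assoc]
    have hc : Commute y (a * y * a) := e.symm ▸ hgy.symm
    refine RootInv12.not_adj_of_pow_four hD ?_ hadj
    have hm := mul_self_of_commute hD hy.1 (conj_mem2 hD ha.1 hy.1) hc
    calc (a * y) ^ 4 = a * (y * (a * y * a) * (y * (a * y * a))) * a := by
          simp only [pow_succ, pow_zero, one_mul, mul_assoc,
            RootInvolutions.mul_self hD ha.1, mul_one]
      _ = 1 := by rw [hm, mul_one, RootInvolutions.mul_self hD ha.1]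

/-- The shifted case is impossible. -/
theorem not_allShift {v : G} (hv : Bad D R v) : ¬ AllShift D v := by
  intro h
  have hb := c.blocks
  have hD := hb.hD
  obtain ⟨-, -, a, ha, -, -, hav, -, -⟩ := id hv
  have haC : a ∈ Cv D v := ⟨ha, hav⟩
  obtain ⟨z, hz, u, hu, hn⟩ := (c.flat hv haC).2
  obtain ⟨h4, hg, -⟩ := c.partners_sq ha hz hu hn
  obtain ⟨g, hga⟩ := hb.cl z hz.1.1 a ha
  set d := g * u * g⁻¹ with hd
  have hdD : d ∈ D := conj_self hD g hu.1.1
  have had : orderOf (a * d) = 4 := by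
    rw [hga, hd, ← RootInv12.conj_mul']; exact ((MulAut.conj g).orderOf_eq _).trans h4
  have hwD : (a * d) ^ 2 ∈ D := by
    rw [hga, hd, ← RootInv12.conj_mul', conj_pow]; exact conj_self hD g hg
  obtain ⟨hwa, hwd, hwA, hwX⟩ := sq_facts hD ha hdD had hwD
  set w := (a * d) ^ 2 with hw
  have hnc := RootInv.not_comm_of_four hD ha hdD had
  have hne : a ≠ d := fun e => hnc (by rw [e])
  set d' := v * d * v⁻¹ with hd'
  have hd'D : d' ∈ D := conj_self hD v hdD
  have hdd : d ≠ d' := fun e => by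
    have hdv : Commute d v := commute_of_conj_eq (hd' ▸ e.symm)
    exact hnc (Commute.eq ((c.eq_of_commute hv haC hwD
      (((hav.mul_left hdv)).pow_left 2) hwa) ▸ hwd))
  have hback : v * d' * v⁻¹ = d := by rw [hd', RootInv12.conj_conj, hv.1]; simp
  have hcase : ∀ g ∈ D, Commute g v → Commute g d → g ≠ d → False := by
    intro g hgD hgv hgd hgne
    have hga' : g ≠ a := fun e => hnc (e ▸ hgd).eq
    exact c.partners_nadj hdD (c.mem_partners hdD hgD hgd hgne) hwX
      (c.shift_adj hv h haC ⟨hgD, hgv⟩ hga' hwA)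
  rcases trichotomy hD hdD hd'D with hc | ho | ⟨h4', hg'⟩
  · refine hcase _ (c.line_of_commute hdD hd'D hc hdd) (commute_of_conj_eq ?_)
      ((Commute.refl d).mul_left hc.symm) fun e => RootInvolutions.ne_one hD hd'D (mul_eq_left.mp e)
    rw [RootInv12.conj_mul', hback, ← hd', hc.eq]
  · obtain ⟨hrD, hrv, hdr, hrr⟩ := mid_moved hD hv.1 ho
    rw [← hd'] at hrD hrv hdr hrr
    set r := mid d d'
    have hra : r ≠ a := fun e => by
      refine not_comm_of_adj hD ho ?_
      have := RootInv12.conj_self_comm hD ha hdD fun hadj => by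
        have h1 := hadj.2.2.2; rw [had] at h1; exact absurd h1 (by decide)
      rwa [RootInvolutions.inv_self hD ha, ← e, hrr] at this
    obtain ⟨hb', hs'⟩ := c.shift hv h ⟨hrD, hrv⟩
    have hdu : Commute d (v * r) := by
      have e : r * d = d' * r := by
        rw [← hrr, mul_assoc _ r r, RootInvolutions.mul_self hD hrD, mul_one]
      show d * (v * r) = v * r * d
      rw [mul_assoc v r d, e, ← mul_assoc v d' r, ← mul_assoc,
        mul_inv_eq_iff_eq_mul.mp hback]
    have hwu := hs' d ⟨hdD, hdu⟩ w hwX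
    have hwr : r * (w * a) * r = w * d := by
      rw [← hwu, ← h a haC w hwA, hrv.eq.symm, mul_inv_rev, RootInvolutions.inv_self hD hrD]
      simp only [mul_assoc]
    have hadj' := c.shift_adj hv h haC ⟨hrD, hrv⟩ hra (c.partner_mul ha hwA)
    have hodd : Odd (orderOf ((r * (w * a)) ^ 2)) :=
      hadj'.2.2.2.of_dvd_nat (orderOf_pow_dvd 2)
    have e : (r * (w * a)) ^ 2 = d * a := by
      calc (r * (w * a)) ^ 2 = r * (w * a) * r * (w * a) := by rw [sq]; simp only [mul_assoc]
        _ = d * (w * w) * a := by rw [hwr, hwd.eq]; simp only [mul_assoc]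
        _ = d * a := by rw [RootInvolutions.mul_self hD hwD, mul_one]
    rw [e, RootInv.orderOf_comm hD ha hdD, had] at hodd
    exact absurd hodd (by decide)
  · obtain ⟨hgd, -, hgP, -⟩ := sq_facts hD hdD hd'D h4' hg'
    refine hcase _ hg' (commute_of_conj_eq ?_) hgd hgP.1.2.2
    rw [← conj_pow, RootInv12.conj_mul', hback, ← hd', RootInv.four_symm hD hdD hd'D h4']

end Crit

end Cfsg.Agent.Lib.RootBlocks41
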