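import Cfsg.Agent.Lib.RootBlocks41.Lineless.Pairs
import Cfsg.Agent.Lib.ZStar.UniqueCase
import Cfsg.Agent.Lib.Coprime.Generation

/-!
# A critical class has no bad involution
-/

set_option autoImplicit false
set_option linter.unusedSectionVars false

namespace Cfsg.Agent.Lib.RootBlocks41

open Cfsg.Agent.Lib.Elem70

variable {G : Type*} [Group G] {D : Set G} {R : G → G → Prop}

/-- The stabiliser of a block. -/
def Blocks.stab (h : Blocks D R) {a : G} (ha : a ∈ D) : Subgroup G where
  carrier := {g | R a (g * a * g⁻¹)}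
  one_mem' := by simpa using h.self ha
  mul_mem' := fun {p q} hp hq => by
    show R a (p * q * a * (p * q)⁻¹)
    rw [← RootInv12.conj_conj]
    exact h.trans ha (conj_self h.hD p ha) (conj_self h.hD p (conj_self h.hD q ha)) hp
      (h.conj ha (conj_self h.hD q ha) hq p)
  inv_mem' := fun {p} hp => by
    show R a (p⁻¹ * a * p⁻¹⁻¹)
    have := h.conj ha (conj_self h.hD p ha) hp p⁻¹
    rw [RootInv12.conj_conj, inv_mul_cancel, one_mul, inv_one, mul_one] at this
    exact h.symm (conj_self h.hD p⁻¹ ha) ha this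

theorem Blocks.mem_stab (h : Blocks D R) {a : G} (ha : a ∈ D) {g : G} :
    g ∈ h.stab ha ↔ R a (g * a * g⁻¹) := Iff.rfl

namespace Crit

variable [Finite G] (c : Crit D R)
include c

/-- An involution moving each partner of `a` at most by `a` is not bad. -/
theorem centralizer_le_stab {v a j : G} (hv : Bad D R v) (ha : a ∈ Cv D v) (hjj : j * j = 1)
    (hj1 : j ≠ 1) (hja : Commute j a) (hconj : ∀ z ∈ Cfsg.productPartners D a, ConjTo a z j) :
    Subgroup.centralizer ({j} : Set G) ≤ c.blocks.stab ha.1 := by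
  intro g hg
  rw [Subgroup.mem_centralizer_singleton_iff] at hg
  rw [c.blocks.mem_stab]
  by_contra hn
  have hc2 : Commute (g * a * g⁻¹) j := by
    have := RootInv12.commute_conj hja.symm g
    rwa [conj_eq_of_commute (Eq.symm hg : Commute j g)] at this
  have hbad : Bad D R j :=
    ⟨hjj, hj1, a, ha.1, _, conj_self c.blocks.hD g ha.1, hja.symm, hc2, hn⟩
  refine c.not_allShift hbad (c.allShift_of_at hbad ⟨ha.1, hja.symm⟩ fun z hz => ?_)
  rcases hconj z hz with h | h
  · exact absurd (commute_of_conj_eq h) (c.partner_not_cv hbad ⟨ha.1, hja.symm⟩ hz)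
  · exact h

/-- There is no bad involution. -/
theorem no_bad {v : G} : ¬ Bad D R v := by
  intro hv
  have hb := c.blocks
  have hD := hb.hD
  obtain ⟨-, -, a, haD, -, -, hav, -, -⟩ := id hv
  have ha : a ∈ Cv D v := ⟨haD, hav⟩
  have hf := c.flat hv ha
  have haa := RootInvolutions.mul_self hD haD
  obtain ⟨k, hk, hkv, hkk, hk1, hka⟩ := c.exists_involution hv ha
  have hca : Commute k a := c.span_commute hk
  have hconj : ∀ z ∈ Cfsg.productPartners D a, ConjTo a z k := fun z hz =>
    c.span_conjTo haD hf (Subgroup.subset_closure hz) hk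
  set H := hb.stab haD
  have hH1 : Subgroup.centralizer ({k} : Set G) ≤ H :=
    c.centralizer_le_stab hv ha hkk hk1 hca hconj
  have hH2 : Subgroup.centralizer ({k * a} : Set G) ≤ H := by
    refine c.centralizer_le_stab hv ha ?_ (fun e => hka ?_) (hca.mul_left (Commute.refl a))
      fun z hz => ?_
    · rw [hca.symm.mul_mul_mul_comm, hkk, haa, one_mul]
    · rw [eq_inv_of_mul_eq_one_left e, RootInvolutions.inv_self hD haD]
    · unfold ConjTo
      rw [← RootInv12.conj_conj, conj_eq_of_commute (show Commute z a from hz.1.2.1)]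
      exact hconj z hz
  have hH3 : Subgroup.centralizer ({a} : Set G) ≤ H := fun g hg => by
    rw [Subgroup.mem_centralizer_singleton_iff] at hg
    rw [hb.mem_stab, conj_eq_of_commute (Eq.symm hg : Commute a g)]
    exact hb.self haD
  -- the odd subgroup of the group on `Cv`
  set W := Subgroup.closure (Cv D v) with hW
  have haW : a ∈ W := Subgroup.subset_closure ha
  have hWv : ∀ g : W, Commute (g : G) v := fun g => by
    have : W ≤ Subgroup.centralizer {v} := by
      rw [hW, Subgroup.closure_le]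
      exact fun y hy => Subgroup.mem_centralizer_singleton_iff.mpr hy.2.eq
    exact Subgroup.mem_centralizer_singleton_iff.mp (this g.2)
  have hiso : ZStar.Reduction.Iso (⟨a, haW⟩ : W) := by
    refine ⟨by rw [Subgroup.orderOf_mk]; exact hD.orderOf_eq a haD, fun g => ?_⟩
    have hmem : (g : G) * a * (g : G)⁻¹ ∈ Cv D v :=
      ⟨conj_self hD _ haD, ((hWv g).mul_left hav).mul_left (hWv g).inv_left⟩
    have e : (((⟨a, haW⟩ : W) * g * (⟨a, haW⟩ : W)⁻¹ * g⁻¹ : W) : G) =
        a * (g * a * (g : G)⁻¹) := by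
      simp only [Subgroup.coe_mul, InvMemClass.coe_inv, RootInvolutions.inv_self hD haD, mul_assoc]
    rw [← Subgroup.orderOf_coe, e]
    by_cases h : (g : G) * a * (g : G)⁻¹ = a
    · rw [h, haa, orderOf_one]; exact odd_one
    · exact (c.cv_adj hv ha hmem (Ne.symm h)).2.2.2
  obtain ⟨N, -, hNodd, hNmem⟩ := ZStar.UniqueCase.zcentral_of_iso hiso
  set K : Subgroup G := Subgroup.closure ((fun b => a * b) '' Cv D v) with hK
  have hKN : K ≤ N.map W.subtype := by
    rw [hK, Subgroup.closure_le]
    rintro _ ⟨b, hb', rfl⟩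
    obtain ⟨g, hg⟩ := (hb.sub_cv hv).cl ⟨a, haW⟩ ha ⟨b, Subgroup.subset_closure hb'⟩ hb'
    refine ⟨_, hNmem g, ?_⟩
    have hg' : b = (g : G) * a * (g : G)⁻¹ := congrArg Subtype.val hg
    simp only [Subgroup.coe_subtype, Subgroup.coe_mul, InvMemClass.coe_inv,
      RootInvolutions.inv_self hD haD, mul_assoc, hg']
  have hKodd : Odd (Nat.card K) := by
    refine hNodd.of_dvd_nat ?_
    rw [Nat.card_congr (Subgroup.equivMapOfInjective N W.subtype W.subtype_injective).toEquiv]
    exact Subgroup.card_dvd_of_le hKN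
  have hnorm : ∀ x : G, x * x = 1 → Commute x a → Commute x v →
      x ∈ Subgroup.normalizer (K : Set G) := by
    intro x hxx hxa hxv
    have hle : ∀ y ∈ K, x * y * x⁻¹ ∈ K := by
      intro y hy
      induction hy using Subgroup.closure_induction with
      | mem y hy =>
        obtain ⟨b, hb', rfl⟩ := hy
        refine Subgroup.subset_closure ⟨x * b * x⁻¹,
          ⟨conj_self hD x hb'.1, (hxv.mul_left hb'.2).mul_left hxv.inv_left⟩, ?_⟩
        show a * (x * b * x⁻¹) = x * (a * b) * x⁻¹
        rw [RootInv12.conj_mul', conj_eq_of_commute hxa.symm]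
      | one => simp
      | mul p q _ _ hp hq => rw [RootInv12.conj_mul']; exact mul_mem hp hq
      | inv p _ hp => rw [← conj_inv]; exact inv_mem hp
    rw [Subgroup.mem_normalizer_iff]
    intro y
    refine ⟨hle y, fun hy => ?_⟩
    have := hle _ hy
    rwa [RootInv12.conj_conj, hxx, one_mul, inv_one, mul_one] at this
  have h2 : IsPGroup 2 (Subgroup.closure ({k, a} : Set G)) := by
    have hcm : ∀ s ∈ ({k, a} : Set G), ∀ t ∈ ({k, a} : Set G), Commute s t := by
      rintro s (rfl | rfl) t (rfl | rfl)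
      exacts [Commute.refl _, hca, hca.symm, Commute.refl _]
    have hsq : ∀ s ∈ ({k, a} : Set G), s ^ 2 = 1 := by
      rintro s (rfl | rfl) <;> rw [sq] <;> assumption
    refine isPGroup_closure_of_pow_four ?_ (fun s hs t ht => ?_) fun s hs t ht => ?_
    · intro s hs
      refine orderOf_eq_prime (hsq s hs) ?_
      rcases hs with rfl | rfl
      exacts [hk1, RootInvolutions.ne_one hD haD]
    · rw [conj_eq_of_commute (hcm t ht s hs)]; exact ht
    · rw [(hcm s hs t ht).mul_pow, show (4 : ℕ) = 2 * 2 from rfl, pow_mul, pow_mul, hsq s hs,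
        hsq t ht, one_pow, one_mul]
  obtain ⟨n, hn⟩ := IsPGroup.iff_card.mp h2
  have hcop : Nat.Coprime 2 (Nat.card K) := Nat.coprime_two_left.mpr hKodd
  have hgen := Coprime.le_lineCentralizers (q := 2) hca
    (hnorm k hkk hca hkv) (hnorm a haa (Commute.refl a) hav)
    (by rw [sq, hkk]; exact one_mem _) (by rw [sq, haa]; exact one_mem _)
    (hn ▸ hcop.pow_left n) hcop
  have hKH : K ≤ H := by
    refine hgen.trans (sup_le (inf_le_right.trans hH3) (iSup_le fun t => inf_le_right.trans ?_))
    have ht : t.val = 0 ∨ t.val = 1 := by have := ZMod.val_lt t; omega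
    rcases ht with ht | ht <;> rw [ht]
    · rw [pow_zero, mul_one]; exact hH1
    · rw [pow_one]; exact hH2
  obtain ⟨b, hbD, hbv, hab⟩ := hb.exists_far hv haD
  have hadj := hb.adj_of_not haD hbD hab
  obtain ⟨m, -, hs⟩ := mid_pow hD hadj
  obtain ⟨hrD, hrr, -, -⟩ := mid_spec hD hadj
  have hab' : a * b ∈ K := Subgroup.subset_closure ⟨b, ⟨hbD, hbv⟩, rfl⟩
  have hmemK : (a * b) ^ m ∈ H := hKH (pow_mem hab' m)
  rw [hb.mem_stab] at hmemK
  have e' : a * ((a * b) ^ m * a) = ((a * b) ^ m)⁻¹ := by
    rw [← mul_assoc, flip_pow hD haD hbD, mul_assoc, haa, mul_one]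
  have e : (a * b) ^ m * a * ((a * b) ^ m)⁻¹ = b := by
    rw [← e', ← hs, hs]
    conv_rhs => rw [← hrr, hs]
    simp only [mul_assoc]
  rw [e] at hmemK
  exact hab hmemK

end Crit

end Cfsg.Agent.Lib.RootBlocks41
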