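import Cfsg.Agent.Lib.RootBlocks41.Lineless.Counts

/-!
# A lineless bad involution: a second involution centralising `v` and the member
-/

set_option autoImplicit false
set_option linter.unusedSectionVars false

namespace Cfsg.Agent.Lib.RootBlocks41

open Cfsg.Agent.Lib.Elem70

variable {G : Type*} [Group G] {D : Set G} {R : G → G → Prop}

/-- Each turned partner has form one with exactly one end of every turned pair. -/
def OneSided (D : Set G) (v a : G) : Prop :=
  ∀ z ∈ Turned D v a, ∀ u ∈ Turned D v a, bil z u + bil z (v * u * v⁻¹) = 1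

theorem zmod2_cases (x : ZMod 2) : x = 0 ∨ x = 1 := by revert x; decide

namespace Crit

variable [Finite G] (c : Crit D R)
include c

variable {v a : G} (hv : Bad D R v) (ha : a ∈ Cv D v)
include hv ha

theorem span_mem {z : G} (hz : z ∈ Cfsg.productPartners D a) :
    z ∈ Subgroup.closure (Cfsg.productPartners D a) ∧
      v * z * v⁻¹ ∈ Subgroup.closure (Cfsg.productPartners D a) :=
  ⟨Subgroup.subset_closure hz, Subgroup.subset_closure (c.partner_conj ha.2.symm hz)⟩

theorem bil_pair {x y z u : G} (hx : x ∈ Cfsg.productPartners D a)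
    (hy : y ∈ Cfsg.productPartners D a) (hz : z ∈ Cfsg.productPartners D a)
    (hu : u ∈ Cfsg.productPartners D a) :
    bil (x * y) (z * u) = bil x z + bil x u + (bil y z + bil y u) := by
  have hf := c.flat hv ha
  have hx' := (c.span_mem hv ha hx).1
  have hy' := (c.span_mem hv ha hy).1
  have hz' := (c.span_mem hv ha hz).1
  have hu' := (c.span_mem hv ha hu).1
  rw [c.span_bil_mul ha.1 hf hx' hy' (mul_mem hz' hu'), bil_symm x, bil_symm y,
    c.span_bil_mul ha.1 hf hz' hu' hx', c.span_bil_mul ha.1 hf hz' hu' hy', bil_symm z x,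
    bil_symm u x, bil_symm z y, bil_symm u y]

theorem bil_shift {g x : G} (hg : g ∈ Cfsg.productPartners D a) (hgT : g ∉ Turned D v a)
    (hx : x ∈ Cfsg.productPartners D a) : bil g (v * x * v⁻¹) = bil g x := by
  have hback : v * (v * x * v⁻¹) * v⁻¹ = x := by rw [RootInv12.conj_conj, hv.1]; simp
  rw [← bil_conj v g (v * x * v⁻¹), hback, c.shifted_of_not_turned hv ha hg hgT,
    c.span_bil_mul_a ha.1 (c.flat hv ha) (c.span_mem hv ha hg).1 (c.span_mem hv ha hx).1]

theorem turned_iff {z : G} (hz : z ∈ Cfsg.productPartners D a) :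
    z ∈ Turned D v a ↔ bil z (v * z * v⁻¹) = 1 :=
  ⟨fun h => bil_eq_one.mpr h.2, fun h => ⟨hz, bil_eq_one.mp h⟩⟩

/-- Two commuting turned partners on different lines multiply to a shifted one. -/
theorem mk_shifted (H : OneSided D v a) {z u : G} (hz : z ∈ Turned D v a) (hu : u ∈ Turned D v a)
    (hzu : bil z u = 0) (hne : u ≠ z) (hne' : u ≠ z * a) :
    z * u ∈ Cfsg.productPartners D a ∧ z * u ∉ Turned D v a := by
  have hD := c.blocks.hD
  have hc : Commute z u := bil_eq_zero.mp hzu
  have hP : z * u ∈ Cfsg.productPartners D a := by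
    refine c.mem_partners ha.1 (c.line_of_commute hz.1.1.1 hu.1.1.1 hc hne.symm)
      (Commute.mul_left hz.1.1.2.1 hu.1.1.2.1) fun e => hne' ?_
    rw [← e, ← mul_assoc, RootInvolutions.mul_self hD hz.1.1.1, one_mul]
  refine ⟨hP, fun h => ?_⟩
  have h1 := (c.turned_iff hv ha hP).mp h
  have hu' := (c.turned_image hv ha hu).2
  have hzu' : bil u (v * z * v⁻¹) = bil z (v * u * v⁻¹) := by
    rw [← bil_conj v u (v * z * v⁻¹), (c.turned_image hv ha hz).2, bil_symm]
  rw [RootInv12.conj_mul', c.bil_pair hv ha hz.1 hu.1 (c.turned_image hv ha hz).1.1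
    (c.turned_image hv ha hu).1.1, hzu', (c.turned_iff hv ha hz.1).mp hz,
    (c.turned_iff hv ha hu.1).mp hu] at h1
  have h2 := H z hz u hu
  rw [hzu, zero_add] at h2
  rw [h2] at h1
  exact absurd h1 (by decide)

/-- Shifted partners on different lines do not commute. -/
theorem shifted_bil {g w : G} (hg : g ∈ Cfsg.productPartners D a) (hgT : g ∉ Turned D v a)
    (hw : w ∈ Cfsg.productPartners D a) (hwT : w ∉ Turned D v a) (hne : g ≠ w)
    (hne' : g ≠ w * a) : bil g w = 1 := by
  have hD := c.blocks.hD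
  refine bil_eq_one.mpr fun hc => hne' ?_
  have hwa : Commute w a := hw.1.2.1
  have hga : Commute g a := hg.1.2.1
  have htv : Commute (g * w) v := commute_of_conj_eq (by
    rw [RootInv12.conj_mul', c.shifted_of_not_turned hv ha hg hgT,
      c.shifted_of_not_turned hv ha hw hwT, mul_assoc g, ← mul_assoc a, hwa.symm.eq,
      mul_assoc w, RootInvolutions.mul_self hD ha.1, mul_one])
  have e := c.eq_of_commute hv ha (c.line_of_commute hg.1.1 hw.1.1 hc hne) htv
    (hga.mul_left hwa)
  rw [← e, hc.eq, ← mul_assoc, RootInvolutions.mul_self hD hw.1.1, one_mul]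

theorem three_false (H : OneSided D v a) {z u1 u2 : G} (hz : z ∈ Turned D v a)
    (h1 : u1 ∈ Turned D v a) (h2 : u2 ∈ Turned D v a) (hz1 : bil z u1 = 0) (hz2 : bil z u2 = 0)
    (n1 : u1 ≠ z) (n1' : u1 ≠ z * a) (n2 : u2 ≠ z) (n2' : u2 ≠ z * a) (n : u2 ≠ u1)
    (n' : u2 ≠ u1 * a) : False := by
  classical
  have hD := c.blocks.hD
  have hf := c.flat hv ha
  have haa := RootInvolutions.mul_self hD ha.1
  obtain ⟨hw1, hw1T⟩ := c.mk_shifted hv ha H hz h1 hz1 n1 n1'
  obtain ⟨hw2, hw2T⟩ := c.mk_shifted hv ha H hz h2 hz2 n2 n2'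
  set P := Subgroup.closure (Cfsg.productPartners D a) with hPdef
  have mz := (c.span_mem hv ha hz.1).1
  have m1 := (c.span_mem hv ha h1.1).1
  have m2 := (c.span_mem hv ha h2.1).1
  have m2' := (c.span_mem hv ha h2.1).2
  have bm : ∀ {x y w : G}, x ∈ P → y ∈ P → w ∈ P → bil (x * y) w = bil x w + bil y w :=
    fun hx hy hw => c.span_bil_mul ha.1 hf hx hy hw
  have bma : ∀ {x w : G}, x ∈ P → w ∈ P → bil (x * a) w = bil x w :=
    fun hx hw => c.span_bil_mul_a ha.1 hf hx hw
  have hne12 : z * u1 ≠ z * u2 ∧ z * u1 ≠ z * u2 * a :=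
    ⟨fun e => n (mul_left_cancel e).symm, fun e => n' (by
      rw [mul_assoc] at e
      rw [mul_left_cancel e, mul_assoc, haa, mul_one])⟩
  have h12 : bil u1 u2 = 1 := by
    have := c.shifted_bil hv ha hw1 hw1T hw2 hw2T hne12.1 hne12.2
    rw [c.bil_pair hv ha hz.1 h1.1 hz.1 h2.1, bil_self, hz2, bil_symm u1 z, hz1] at this
    simpa using this
  set u2' := v * u2 * v⁻¹ with hu2'
  obtain ⟨h2', -⟩ := c.turned_image hv ha h2
  rw [← hu2'] at h2'
  have h12' : bil u1 u2' = 0 := by
    have := H u1 h1 u2 h2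
    rw [h12] at this
    simpa using this
  have hz2' : bil z u2' = 1 := by
    have := H z hz u2 h2
    rwa [hz2, zero_add] at this
  have n3 : u2' ≠ u1 := fun e => by rw [e, hz1] at hz2'; exact zero_ne_one hz2'
  have n3' : u2' ≠ u1 * a := fun e => by
    rw [e, bil_symm, bma m1 mz, bil_symm, hz1] at hz2'; exact zero_ne_one hz2'
  obtain ⟨hw3, hw3T⟩ := c.mk_shifted hv ha H h1 h2' h12' n3 n3'
  -- separating the three lines
  have s1 : bil (z * u1) z = 0 ∧ bil (z * u1) u1 = 0 := by
    refine ⟨?_, ?_⟩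
    · rw [bm mz m1 mz, bil_self, bil_symm, hz1]; rfl
    · rw [bm mz m1 m1, hz1, bil_self]; rfl
  have s2 : bil (z * u2) z = 0 ∧ bil (z * u2) u1 = 1 := by
    refine ⟨?_, ?_⟩
    · rw [bm mz m2 mz, bil_self, bil_symm, hz2]; rfl
    · rw [bm mz m2 m1, hz1, bil_symm, h12]; rfl
  have s3 : bil (u1 * u2') z = 1 ∧ bil (u1 * u2') u1 = 0 := by
    refine ⟨?_, ?_⟩
    · rw [bm m1 m2' mz, bil_symm, hz1, bil_symm, hz2']; rfl
    · rw [bm m1 m2' m1, bil_self, bil_symm, h12']; rfl
  set w1 := z * u1
  set w2 := z * u2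
  set w3 := u1 * u2'
  have p1 : w1 ∈ P := mul_mem mz m1
  have p2 : w2 ∈ P := mul_mem mz m2
  have p3 : w3 ∈ P := mul_mem m1 m2'
  set Γ := (Set.toFinite {x | x ∈ Cfsg.productPartners D a ∧ x ∉ Turned D v a}).toFinset with hΓ
  have hmΓ : ∀ x, x ∈ Γ ↔ x ∈ Cfsg.productPartners D a ∧ x ∉ Turned D v a := fun x => by
    rw [hΓ, Set.Finite.mem_toFinset]; rfl
  have hself : ∀ x : G, x * a ≠ x := fun x e =>
    RootInvolutions.ne_one hD ha.1 (mul_eq_left.mp e)
  have hsig : ∀ {x y : G}, x ∈ P → y ∈ P → (bil x z ≠ bil y z ∨ bil x u1 ≠ bil y u1) →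
      x ≠ y ∧ x ≠ y * a ∧ x * a ≠ y ∧ x * a ≠ y * a := by
    intro x y hx hy hor
    refine ⟨?_, ?_, ?_, ?_⟩ <;> intro e <;> rcases hor with h | h <;> apply h
    · rw [e]
    · rw [e]
    · rw [e, bma hy mz]
    · rw [e, bma hy m1]
    · rw [← e, bma hx mz]
    · rw [← e, bma hx m1]
    · rw [mul_right_cancel e]
    · rw [mul_right_cancel e]
  obtain ⟨a12, b12, c12, d12⟩ := hsig p1 p2 (Or.inr (by rw [s1.2, s2.2]; exact zero_ne_one))
  obtain ⟨a13, b13, c13, d13⟩ := hsig p1 p3 (Or.inl (by rw [s1.1, s3.1]; exact zero_ne_one))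
  obtain ⟨a23, b23, c23, d23⟩ := hsig p2 p3 (Or.inl (by rw [s2.1, s3.1]; exact zero_ne_one))
  have heq : Γ = {w1, w1 * a, w2, w2 * a, w3, w3 * a} := by
    ext g
    simp only [hmΓ, Finset.mem_insert, Finset.mem_singleton]
    constructor
    · rintro ⟨hg, hgT⟩
      by_contra hn
      push Not at hn
      obtain ⟨g1, g1', g2, g2', g3, g3'⟩ := hn
      have mg := (c.span_mem hv ha hg).1
      have e1 := c.shifted_bil hv ha hg hgT hw1 hw1T g1 g1'
      have e2 := c.shifted_bil hv ha hg hgT hw2 hw2T g2 g2'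
      have e3 := c.shifted_bil hv ha hg hgT hw3 hw3T g3 g3'
      rw [bil_symm, bm mz m1 mg] at e1
      rw [bil_symm, bm mz m2 mg] at e2
      rw [bil_symm, bm m1 m2' mg, bil_symm u2' g, c.bil_shift hv ha hg hgT h2.1,
        bil_symm g u2] at e3
      revert e1 e2 e3
      generalize bil z g = x
      generalize bil u1 g = y
      generalize bil u2 g = t
      revert x y t
      decide
    · have hmul : ∀ {w : G}, w ∈ Cfsg.productPartners D a → w ∉ Turned D v a →
          w * a ∈ Cfsg.productPartners D a ∧ w * a ∉ Turned D v a := fun hw hwT =>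
        ⟨c.partner_mul ha.1 hw, fun h => hwT (by
          have := c.turned_mul ha h
          rwa [mul_assoc, haa, mul_one] at this)⟩
      rintro (rfl | rfl | rfl | rfl | rfl | rfl)
      exacts [⟨hw1, hw1T⟩, hmul hw1 hw1T, ⟨hw2, hw2T⟩, hmul hw2 hw2T, ⟨hw3, hw3T⟩,
        hmul hw3 hw3T]
  have h6 : Γ.card = 6 := by
    rw [heq, Finset.card_insert_of_notMem (by simp [(hself w1).symm, a12, b12, a13, b13]),
      Finset.card_insert_of_notMem (by simp [c12, d12, c13, d13]),
      Finset.card_insert_of_notMem (by simp [(hself w2).symm, a23, b23]),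
      Finset.card_insert_of_notMem (by simp [c23, d23]),
      Finset.card_insert_of_notMem (by simp [(hself w3).symm]), Finset.card_singleton]
  have hsum := Set.ncard_sdiff_add_ncard_of_subset
    (fun x (hx : x ∈ Turned D v a) => hx.1) (Set.toFinite (Cfsg.productPartners D a))
  rw [show Cfsg.productPartners D a \ Turned D v a =
      {x | x ∈ Cfsg.productPartners D a ∧ x ∉ Turned D v a} from rfl,
    Set.ncard_eq_toFinset_card {x | x ∈ Cfsg.productPartners D a ∧ x ∉ Turned D v a}
      (Set.toFinite _), ← hΓ, h6] at hsum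
  have q1 := c.turned_mod_eight hv ha
  have q2 := c.partners_mod_four hv ha
  omega

theorem not_oneSided : ¬ OneSided D v a := by
  classical
  intro H
  have hD := c.blocks.hD
  have hf := c.flat hv ha
  have haa := RootInvolutions.mul_self hD ha.1
  obtain ⟨z, hz⟩ : (Turned D v a).Nonempty := by
    by_contra hne
    exact c.not_allShift hv (c.allShift_of_at hv ha fun z hz =>
      c.shifted_of_not_turned hv ha hz fun h => hne ⟨z, h⟩)
  obtain ⟨hz', hzback⟩ := c.turned_image hv ha hz
  have h8 : 8 ≤ (Turned D v a).ncard := by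
    have h1 := c.turned_mod_eight hv ha
    have h2 := (Set.ncard_pos (Set.toFinite _)).mpr ⟨z, hz⟩
    omega
  -- a second pair, commuting with `z`
  obtain ⟨u, hu, hzu, n1, n2⟩ : ∃ u ∈ Turned D v a, bil z u = 0 ∧ u ≠ z ∧ u ≠ z * a := by
    by_contra hno
    push Not at hno
    have hsub : Turned D v a ⊆
        (({z, z * a, v * z * v⁻¹, v * z * v⁻¹ * a} : Finset G) : Set G) := by
      intro u hu
      simp only [Finset.coe_insert, Finset.coe_singleton, Set.mem_insert_iff,
        Set.mem_singleton_iff]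
      obtain ⟨hu', huback⟩ := c.turned_image hv ha hu
      rcases zmod2_cases (bil z u) with h | h
      · by_cases e : u = z
        · exact Or.inl e
        · exact Or.inr (Or.inl (hno u hu h e))
      · have h' : bil z (v * u * v⁻¹) = 0 := by
          have := H z hz u hu
          rw [h] at this
          simpa using this
        by_cases e : v * u * v⁻¹ = z
        · exact Or.inr (Or.inr (Or.inl (by rw [← huback, e])))
        · refine Or.inr (Or.inr (Or.inr ?_))
          rw [← huback, hno _ hu' h' e, RootInv12.conj_mul', conj_eq_of_commute ha.2]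
    have := Set.ncard_le_ncard hsub (Finset.finite_toSet _)
    rw [Set.ncard_coe_finset] at this
    have : ({z, z * a, v * z * v⁻¹, v * z * v⁻¹ * a} : Finset G).card ≤ 4 :=
      Finset.card_le_four
    omega
  obtain ⟨hw, hwT⟩ := c.mk_shifted hv ha H hz hu hzu n1 n2
  -- a second shifted line
  obtain ⟨g, hg, hgT, g1, g2⟩ : ∃ g, g ∈ Cfsg.productPartners D a ∧ g ∉ Turned D v a ∧
      g ≠ z * u ∧ g ≠ z * u * a := by
    by_contra hno
    push Not at hno
    have e : Cfsg.productPartners D a \ Turned D v a = {z * u, z * u * a} := by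
      ext x
      simp only [Set.mem_sdiff, Set.mem_insert_iff, Set.mem_singleton_iff]
      constructor
      · rintro ⟨hx, hxT⟩
        by_cases e : x = z * u
        · exact Or.inl e
        · exact Or.inr (hno x hx hxT e)
      · rintro (rfl | rfl)
        · exact ⟨hw, hwT⟩
        · refine ⟨c.partner_mul ha.1 hw, fun h => hwT ?_⟩
          have := c.turned_mul ha h
          rwa [mul_assoc, haa, mul_one] at this
    have hsum := Set.ncard_sdiff_add_ncard_of_subset
      (fun x (hx : x ∈ Turned D v a) => hx.1) (Set.toFinite (Cfsg.productPartners D a))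
    rw [e, Set.ncard_pair (fun e => RootInvolutions.ne_one hD ha.1 (mul_eq_left.mp e.symm))]
      at hsum
    have q1 := c.turned_mod_eight hv ha
    have q2 := c.partners_mod_four hv ha
    omega
  -- the third pair
  have key : ∀ {z u : G}, z ∈ Turned D v a → u ∈ Turned D v a → bil z u = 0 → u ≠ z →
      u ≠ z * a → g ≠ z * u → g ≠ z * u * a → bil g z = 0 → False := by
    intro z u hz hu hzu n1 n2 g1 g2 hgz
    have hza : Commute z a := hz.1.1.2.1
    have hc : Commute z g := (bil_eq_zero.mp hgz).symm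
    have hzg : g ≠ z := fun e => hgT (e ▸ hz)
    have hxP : z * g ∈ Cfsg.productPartners D a := by
      refine c.mem_partners ha.1 (c.line_of_commute hz.1.1.1 hg.1.1 hc hzg.symm)
        (hza.mul_left hg.1.2.1) fun e => hgT ?_
      have e' : g = z * a := by
        rw [← e, ← mul_assoc, RootInvolutions.mul_self hD hz.1.1.1, one_mul]
      exact e' ▸ c.turned_mul ha hz
    obtain ⟨mz, mz'⟩ := c.span_mem hv ha hz.1
    have mg := (c.span_mem hv ha hg).1
    have hx : z * g ∈ Turned D v a := by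
      refine (c.turned_iff hv ha hxP).mpr ?_
      rw [RootInv12.conj_mul', c.bil_pair hv ha hz.1 hg (c.turned_image hv ha hz).1.1
        (c.partner_conj ha.2.symm hg), (c.turned_iff hv ha hz.1).mp hz,
        c.bil_shift hv ha hg hgT hz.1, hgz, c.bil_shift hv ha hg hgT hg, bil_self,
        c.shifted_of_not_turned hv ha hg hgT, bil_symm z (g * a),
        c.span_bil_mul_a ha.1 hf mg mz, hgz]
      rfl
    refine c.three_false hv ha H hz hu hx hzu ?_ n1 n2
      (fun e => RootInvolutions.ne_one hD hg.1.1 (mul_eq_left.mp e)) (fun e => hg.1.2.2 (mul_left_cancel e))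
      (fun e => g1 ?_) (fun e => g2 ?_)
    · rw [bil_symm, c.span_bil_mul ha.1 hf mz mg mz, bil_self, hgz]; rfl
    · rw [← e, ← mul_assoc, RootInvolutions.mul_self hD hz.1.1.1, one_mul]
    · rw [mul_assoc, ← e, ← mul_assoc, RootInvolutions.mul_self hD hz.1.1.1, one_mul]
  have hgw := c.shifted_bil hv ha hg hgT hw hwT g1 g2
  rw [bil_symm, c.span_bil_mul ha.1 hf (c.span_mem hv ha hz.1).1 (c.span_mem hv ha hu.1).1
    (c.span_mem hv ha hg).1] at hgw
  rcases zmod2_cases (bil z g) with h | h
  · exact key hz hu hzu n1 n2 g1 g2 (bil_symm g z ▸ h)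
  · have hug : bil g u = 0 := by
      rw [h] at hgw
      rw [bil_symm]
      simpa using hgw
    have hc : Commute z u := bil_eq_zero.mp hzu
    refine key hu hz (bil_symm u z ▸ hzu) n1.symm (fun e => n2 ?_) (hc.eq ▸ g1) (hc.eq ▸ g2) hug
    rw [e, mul_assoc, haa, mul_one]

/-- An involution centralising `v` and `a` in the span of the partners. -/
theorem exists_involution : ∃ k ∈ Subgroup.closure (Cfsg.productPartners D a),
    Commute k v ∧ k * k = 1 ∧ k ≠ 1 ∧ k ≠ a := by
  have hD := c.blocks.hD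
  have hf := c.flat hv ha
  have hH := c.not_oneSided hv ha
  simp only [OneSided, not_forall, exists_prop] at hH
  obtain ⟨z, hz, u, hu, hne⟩ := hH
  obtain ⟨hz', hzb⟩ := c.turned_image hv ha hz
  obtain ⟨hu', hub⟩ := c.turned_image hv ha hu
  obtain ⟨mz, mz'⟩ := c.span_mem hv ha hz.1
  obtain ⟨mu, mu'⟩ := c.span_mem hv ha hu.1
  set z' := v * z * v⁻¹ with hz'def
  set u' := v * u * v⁻¹ with hu'def
  have hsum : bil z u + bil z u' = 0 := (zmod2_cases _).resolve_right hne
  have hsq : ∀ {x : G}, x ∈ Turned D v a → orderOf (x * (v * x * v⁻¹)) = 4 ∧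
      (x * (v * x * v⁻¹)) ^ 2 = a := by
    intro x hx
    rcases c.dich hv ha hx.1 with h | h
    · exact absurd (h ▸ (Commute.refl x).mul_right hx.1.1.2.1) hx.2
    · exact h
  set K := z * z' with hK
  set L := u * u' with hL
  have hKK : K * K = a := by rw [← sq]; exact (hsq hz).2
  have hLL : L * L = a := by rw [← sq]; exact (hsq hu).2
  have e1 : bil z' u' = bil z u := bil_conj v z u
  have e2 : bil z' u = bil z u' := by
    rw [← bil_conj v z u', hu'def, (c.turned_image hv ha hu).2]
  have hKL : Commute K L := bil_eq_zero.mp (by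
    rw [hK, hL, c.bil_pair hv ha hz.1 hz'.1 hu.1 hu'.1, e1, e2, add_comm (bil z u'), hsum,
      zero_add])
  have haa := RootInvolutions.mul_self hD ha.1
  have hvK : v * K * v⁻¹ = z' * z := by rw [hK, RootInv12.conj_mul', hzb]
  have hvL : v * L * v⁻¹ = u' * u := by rw [hL, RootInv12.conj_mul', hub]
  refine ⟨K * L, mul_mem (mul_mem mz mz') (mul_mem mu mu'), commute_of_conj_eq ?_, ?_, ?_⟩
  · have hiK : K⁻¹ = z' * z := by
      rw [hK, mul_inv_rev, RootInvolutions.inv_self hD hz'.1.1.1,
        RootInvolutions.inv_self hD hz.1.1.1]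
    have hiL : L⁻¹ = u' * u := by
      rw [hL, mul_inv_rev, RootInvolutions.inv_self hD hu'.1.1.1,
        RootInvolutions.inv_self hD hu.1.1.1]
    rw [RootInv12.conj_mul', hvK, hvL, ← hiK, ← hiL, ← mul_inv_rev, ← hKL.eq]
    refine inv_eq_of_mul_eq_one_left ?_
    rw [hKL.symm.mul_mul_mul_comm, hKK, hLL, haa]
  · rw [hKL.symm.mul_mul_mul_comm, hKK, hLL, haa]
  · have hb : bil (K * L) z = 1 := by
      rw [hK, hL, c.span_bil_mul ha.1 hf (mul_mem mz mz') (mul_mem mu mu') mz,
        c.span_bil_mul ha.1 hf mz mz' mz, c.span_bil_mul ha.1 hf mu mu' mz, bil_self,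
        bil_symm z' z, (c.turned_iff hv ha hz.1).mp hz, bil_symm u z, bil_symm u' z, hsum]
      rfl
    refine ⟨fun e => ?_, fun e => ?_⟩
    · rw [e, bil_one] at hb; exact zero_ne_one hb
    · rw [e, bil_eq_zero.mpr (show Commute a z from Eq.symm hz.1.1.2.1)] at hb
      exact zero_ne_one hb

end Crit

end Cfsg.Agent.Lib.RootBlocks41
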