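import Cfsg.Agent.Lib.RootBlocks41.Lineful
import Cfsg.Agent.Lib.RootBlocks41.TwoGroup
import Cfsg.Agent.Lib.RootBlocks41.Transfer

/-!
# A lineless bad involution: first properties and transfer
-/

set_option autoImplicit false
set_option linter.unusedSectionVars false

namespace Cfsg.Agent.Lib.RootBlocks41

open Cfsg.Agent.Lib.Elem70

variable {G : Type*} [Group G] {D : Set G} {R : G → G → Prop}

namespace Crit

variable [Finite G] (c : Crit D R)
include c

theorem cv_adj {v a b : G} (hv : Bad D R v) (ha : a ∈ Cv D v) (hb : b ∈ Cv D v) (hne : a ≠ b) :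
    Cfsg.OddAdj D a b := by
  have hD := c.blocks.hD
  rcases trichotomy hD ha.1 hb.1 with hc | ho | ⟨h4, hg⟩
  · exact absurd (c.not_lineful hv) (fun hn => hn ⟨a, ha, b, hb, ⟨hb.1, hc.eq.symm, hne.symm⟩,
      by rw [← hc.eq]; exact c.line_of_commute ha.1 hb.1 hc hne⟩)
  · exact ho
  · exact absurd (c.not_lineful hv) (fun hn => hn ⟨a, ha, (a * b) ^ 2,
      ⟨hg, (ha.2.mul_left hb.2).pow_left 2⟩, (sq_facts hD ha.1 hb.1 h4 hg).2.2.1⟩)

theorem eq_of_commute {v a b : G} (hv : Bad D R v) (ha : a ∈ Cv D v) (hb : b ∈ D)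
    (hbv : Commute b v) (hab : Commute b a) : b = a := by
  by_contra hne
  exact not_comm_of_adj c.blocks.hD (c.cv_adj hv ha ⟨hb, hbv⟩ (Ne.symm hne)) hab.symm

theorem odd_cv_card {v : G} (hv : Bad D R v) : Odd (Cv D v).ncard := by
  classical
  have hD := c.blocks.hD
  obtain ⟨-, -, a, ha, -, -, hav, -, -⟩ := id hv
  have hsplit := Finset.card_filter_add_card_filter_not (s := (Set.toFinite (Cv D v)).toFinset)
    (fun x => a * x * a⁻¹ = x)
  have heven : Even ((Set.toFinite (Cv D v)).toFinset.filter fun x => ¬ a * x * a⁻¹ = x).card := by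
    have hback : ∀ x : G, a * (a * x * a⁻¹) * a⁻¹ = x := fun x => by
      rw [RootInv12.conj_conj, RootInvolutions.mul_self hD ha]; simp
    refine even_of_involution (fun x => a * x * a⁻¹) (fun x hx => ?_) (fun x _ => hback x)
      (fun x hx => (Finset.mem_filter.mp hx).2)
    simp only [Finset.mem_filter, Set.Finite.mem_toFinset] at hx ⊢
    exact ⟨⟨conj_self hD a hx.1.1, (hav.mul_left hx.1.2).mul_left hav.inv_left⟩,
      fun e => hx.2 (RootInv12.conj_injective a e)⟩
  have hfix : ((Set.toFinite (Cv D v)).toFinset.filter fun x => a * x * a⁻¹ = x) = {a} := by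
    ext x
    simp only [Finset.mem_filter, Set.Finite.mem_toFinset, Finset.mem_singleton]
    refine ⟨fun ⟨hx, e⟩ => ?_, ?_⟩
    · exact c.eq_of_commute hv ⟨ha, hav⟩ hx.1 hx.2 (commute_of_conj_eq e)
    · rintro rfl; exact ⟨⟨ha, hav⟩, by rw [mul_inv_cancel_right]⟩
  rw [hfix, Finset.card_singleton] at hsplit
  rw [Set.ncard_eq_toFinset_card _ (Set.toFinite _), ← hsplit, Nat.odd_add]
  exact ⟨fun _ => heven, fun _ => odd_one⟩

theorem cv_conj {v a b : G} (hv : Bad D R v) (ha : a ∈ Cv D v) (hb : b ∈ Cv D v) :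
    ∃ g : G, Commute g v ∧ g * a * g⁻¹ = b :=
  c.blocks.cv_conj hv ha hb

/-- The transfer to the centraliser of a member is trivial. -/
theorem transfer_sign {v a : G} (hv : Bad D R v) (ha : a ∈ Cv D v)
    (χ : ↥(Subgroup.centralizer ({a} : Set G)) →* ℤˣ) :
    χ ⟨v, Subgroup.mem_centralizer_singleton_iff.mpr ha.2.eq.symm⟩ = 1 :=
  c.blocks.transfer_sign c.simple hv ha (c.odd_cv_card hv) χ

/-- An action of the centraliser of a member: `v` moves a multiple of four points. -/
theorem action_mod_four {v a : G} (hv : Bad D R v) (ha : a ∈ Cv D v) {X : Type*} [Fintype X]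
    [DecidableEq X] (φ : ↥(Subgroup.centralizer ({a} : Set G)) →* Equiv.Perm X) :
    (φ ⟨v, Subgroup.mem_centralizer_singleton_iff.mpr ha.2.eq.symm⟩).support.card % 4 = 0 :=
  c.blocks.action_mod_four c.simple hv ha (c.odd_cv_card hv) φ

end Crit

end Cfsg.Agent.Lib.RootBlocks41
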